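/-!
A Sylow 2-subgroup of M23: seven generators and the words for its elements, by increasing codes.
-/

set_option autoImplicit false
set_option maxRecDepth 20000

namespace CfsgLib.M23Ext

/-- The generators. -/
def sylGens : List Nat :=
  [565685063416258347921839429499791981906978691378344952576,
    565977993564960846414454056222586968243655044689256777216,
    564917308814444542701939396700318662053796805714463229696,
    566069309734642299875679018270868834581635786571913363716,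
    564253582381208040940528525497680815940578156415651348736,
    565496475572169168460533884463561603327246745911561355776,
    564248328339911045439784410244660019218554220906197614856]

/-- The words. -/
def sylWords : List (List Nat) :=
  [[0, 3, 4],
    [0, 1, 2],
    [0, 1, 2, 3],
    [0, 4],
    [0, 3, 6],
    [0, 1, 2, 3, 4, 6],
    [0, 6],
    [0, 1, 2, 4, 6],
    [3, 5],
    [1, 4, 5],
    [0, 5, 6],
    [2, 4, 5, 6],
    [0, 2, 3, 4, 5, 6],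
    [1, 2, 3, 5, 6],
    [0, 1, 3, 4, 5],
    [0, 1, 2, 5],
    [3, 6],
    [1, 2, 3, 4, 6],
    [6],
    [1, 2, 4, 6],
    [3, 4],
    [1, 2],
    [1, 2, 3],
    [4],
    [5, 6],
    [0, 2, 4, 5, 6],
    [0, 3, 5],
    [0, 1, 4, 5],
    [1, 3, 4, 5],
    [1, 2, 5],
    [2, 3, 4, 5, 6],
    [0, 1, 2, 3, 5, 6],
    [0, 2],
    [0, 1, 3, 4],
    [0, 2, 3, 4, 6],
    [0, 1, 3, 6],
    [0, 1, 4],
    [0, 2, 3],
    [0, 2, 4, 6],
    [0, 1, 6],
    [0, 1, 3],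
    [0, 2, 4],
    [0, 2, 6],
    [0, 1, 4, 6],
    [0, 1],
    [0, 2, 3, 4],
    [0, 1, 3, 4, 6],
    [0, 2, 3, 6],
    [2, 3, 5],
    [1, 2, 4, 5],
    [0, 2, 5, 6],
    [4, 5, 6],
    [0, 1, 5],
    [0, 1, 2, 3, 4, 5],
    [1, 3, 5, 6],
    [0, 3, 4, 5, 6],
    [2, 3, 4, 6],
    [1, 3, 6],
    [2],
    [1, 3, 4],
    [2, 4, 6],
    [1, 6],
    [1, 4],
    [2, 3],
    [0, 5],
    [0, 2, 3, 4, 5],
    [3, 5, 6],
    [0, 1, 3, 4, 5, 6],
    [0, 1, 2, 5, 6],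
    [1, 4, 5, 6],
    [2, 4, 5],
    [1, 2, 3, 5],
    [0, 4, 5, 6],
    [2, 5, 6],
    [0, 2, 3, 5],
    [0, 1, 2, 4, 5],
    [0, 1, 3, 5, 6],
    [3, 4, 5, 6],
    [1, 5],
    [1, 2, 3, 4, 5],
    [0, 3, 5, 6],
    [1, 3, 4, 5, 6],
    [5],
    [2, 3, 4, 5],
    [0, 2, 4, 5],
    [0, 1, 2, 3, 5],
    [0, 1, 4, 5, 6],
    [1, 2, 5, 6],
    [0, 1, 2, 4],
    [0, 3],
    [0, 1, 2, 3, 4],
    [0],
    [0, 1, 2, 6],
    [0, 4, 6],
    [0, 1, 2, 3, 6],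
    [0, 3, 4, 6],
    [1, 2, 3, 4, 5, 6],
    [0, 2, 3, 5, 6],
    [3, 4, 5],
    [2, 5],
    [0, 1, 2, 4, 5, 6],
    [1, 5, 6],
    [0, 4, 5],
    [0, 1, 3, 5],
    [0, 3, 4, 5],
    [0, 2, 5],
    [0, 1, 2, 3, 4, 5, 6],
    [2, 3, 5, 6],
    [4, 5],
    [1, 3, 5],
    [1, 2, 4, 5, 6],
    [0, 1, 5, 6],
    [1, 4, 6],
    [2, 6],
    [1, 3],
    [2, 4],
    [1, 3, 4, 6],
    [2, 3, 6],
    [1],
    [2, 3, 4],
    [4, 6],
    [1, 2, 6],
    [1, 2, 3, 6],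
    [3, 4, 6],
    [1, 2, 4],
    [3],
    [1, 2, 3, 4],
    []]

end CfsgLib.M23Ext
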