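import Cfsg.Agent.Lib.Sporadic.M23Ext.Setup
import Cfsg.Agent.Lib.Sporadic.M23Ext.SylData

/-!
Coordinates and matrices of coded elements for modules of words.
-/

set_option autoImplicit false

namespace CfsgLib.M23Ext

open Cfsg CfsgLib.Cocode CfsgLib.SchurCoded CfsgLib.M24Elt CfsgLib.Golay

theorem syl_check : eltsOK sylGens sylWords = true := by decide +kernel

/-- The words with the given coordinates in a list of masks. -/
noncomputable def embL (l : List ℕ) : V →ₗ[ZMod 2] (GolayPt → ZMod 2) :=
  Fintype.linearCombination (ZMod 2) fun i => toWord (l.getD i 0)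

theorem embL_apply (l : List ℕ) (v : V) : embL l v = ∑ i : Fin 11, v i • toWord (l.getD i 0) := rfl

theorem embL_toV {l : List ℕ} (hl : l.length = 11) (n : ℕ) :
    embL l (toV n) = toWord (combL l n) := by
  rw [toWord_combL, embL_apply]
  refine Fintype.sum_equiv (finCongr hl.symm) _ _ fun i => ?_
  show b2z (n.testBit i) • toWord (l.getD i 0) = b2z (n.testBit i) • toWord (l[(i : ℕ)]'(by omega))
  rw [List.getD_eq_getElem _ _ (by omega)]

theorem embL_mat (l cols : List ℕ) (hl : l.length = 11) (v : V) :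
    embL l (mat cols v) = ∑ i : Fin 11, v i • toWord (combL l (cols.getD i 0)) := by
  rw [mat_apply, map_sum]
  exact Finset.sum_congr rfl fun i _ => by rw [map_smul, embL_toV hl]

theorem sum_comp (σ : Equiv.Perm GolayPt) (v : V) (w : Fin 11 → GolayPt → ZMod 2) :
    (∑ i, v i • w i) ∘ ⇑σ = ∑ i, v i • (w i ∘ ⇑σ) := by
  funext p
  simp [Finset.sum_apply]

theorem pull_word {c : ℕ} (h : t23.ok c = true) (n : ℕ) :
    toWord (pull c n) = toWord n ∘ ⇑((el t23 c : t23.S) : Equiv.Perm GolayPt) := by
  rw [coe_el t23 h, toWord_pull (isPermOf_pm (t23.sound c h).1) n]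
  rfl

end CfsgLib.M23Ext
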