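import Cfsg.Agent.Lib.Sporadic.M23Ext.Base
import Cfsg.Agent.Lib.Sporadic.M23Ext.DualData

/-!
Non-split extensions of M23 by its cocode module: normalised lifts of a Sylow 2-subgroup, and any two
such extensions are isomorphic.
-/

set_option autoImplicit false

namespace CfsgLib.M23Ext.Dual

open Cfsg CfsgLib.Cocode CfsgLib.SchurCoded CfsgLib.M24Elt CfsgLib.Golay CfsgLib.M23Ext

/-- The masks of the coordinates. -/
def fm : List ℕ := free.map fun i => 2 ^ i

/-- Masks of words that are zero in the module. -/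
noncomputable def kerb (d : ℕ) : Bool :=
  Nat.blt d 16777216 && (memb d || memb (Nat.xor d 8388608))

/-- The check of the matrix of a letter. -/
noncomputable def matOK (a : ℕ) : Bool :=
  Comp.PermCode.allLt 11 fun i =>
    kerb (Nat.xor (pull (codes.getD a 0) (combL fm ((pres.mats.getD a []).getD i 0))) (fm.getD i 0))

theorem mats_check : Comp.PermCode.allLt codes.length matOK = true ∧ codes.all t23.ok = true := by
  decide +kernel

theorem fm_check : (Comp.PermCode.allLt 2048 fun n =>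
      Nat.beq n 0 || !(let d := combL fm n; memb d || memb (Nat.xor d 8388608))) = true ∧
    (Comp.PermCode.allLt 2048 fun n => Nat.blt (combL fm n) 16777216) = true ∧
    (Comp.PermCode.allLt 24 fun i => kerb (Nat.xor (combL fm (units.getD i 0)) (2 ^ i))) = true := by
  decide +kernel

theorem cert_check : certOK codes pres cert = true := by decide +kernel

theorem shape_check : shapeOK pres.rels = true := by decide +kernel

theorem small_check' : Comp.PermCode.allLt 28 (fun r =>
    (pres.lhs r).all (fun a => Nat.blt a 7) && (pres.rhs r).all (fun a => Nat.blt a 7)) = true := by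
  decide +kernel

theorem small_check (r : ℕ) (hr : r < 28) :
    (∀ a ∈ pres.lhs r, a < 7) ∧ (∀ a ∈ pres.rhs r, a < 7) := by
  have h := Comp.PermCode.allLt_spec small_check' r hr
  simp only [Bool.and_eq_true, List.all_eq_true, Nat.blt_eq] at h
  exact h

theorem gens_check : (∀ a : Fin 7, sylGens.getD a 0 = codes.getD a 0) ∧ 7 ≤ codes.length := by
  decide +kernel

theorem toWord_extra : toWord 8388608 = Pi.single none 1 := by
  funext p; revert p; decide +kernel

variable {E : Type*} [Group E] {N : Subgroup E}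

theorem theta_eq (θ : (GolayPt → ZMod 2) →+ Additive ↥N)
    (hker : ∀ w, θ w = 0 ↔ (w ∈ golayCode ∨ w + Pi.single none 1 ∈ golayCode))
    {m n : ℕ} (h : kerb (Nat.xor m n) = true) : θ (toWord m) = θ (toWord n) := by
  simp only [kerb, Bool.and_eq_true, Bool.or_eq_true, Nat.blt_eq] at h
  have h0 : θ (toWord m + toWord n) = 0 := by
    rw [← toWord_xor, hker]
    rcases h.2 with h2 | h2
    · exact Or.inl ((toWord_mem_iff (n := m ^^^ n) h.1).2 h2)
    · refine Or.inr ?_
      rw [← toWord_extra, ← toWord_xor]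
      exact (toWord_mem_iff (Nat.xor_lt_two_pow (n := 24) h.1 (by norm_num))).2 h2
  rw [show toWord m = toWord m + toWord n + toWord n by
    funext p; simp [add_assoc, CharTwo.add_self_eq_zero], map_add, h0, zero_add]

/-- Coordinates of a word in the module. -/
noncomputable def dec (w : GolayPt → ZMod 2) : V := ∑ p, w p • toV (units.getD (Golay.bit p) 0)

/-- The action on the coordinates. -/
noncomputable def actD (σ : ↥Spor.M23) (v : V) : V :=
  dec (embL fm v ∘ ⇑((σ : Equiv.Perm GolayPt)⁻¹))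

theorem theta_dec (θ : (GolayPt → ZMod 2) →+ Additive ↥N)
    (hker : ∀ w, θ w = 0 ↔ (w ∈ golayCode ∨ w + Pi.single none 1 ∈ golayCode))
    (w : GolayPt → ZMod 2) : θ (embL fm (dec w)) = θ w := by
  have hs : ∀ p : GolayPt, toWord (2 ^ Golay.bit p) = Pi.single p 1 := fun p => by
    funext q
    by_cases h : q = p
    · subst h
      simp [toWord]
    · rw [Pi.single_eq_of_ne h]
      simp [toWord, Nat.testBit_two_pow_of_ne fun e : Golay.bit p = Golay.bit q => h (bit_injective e).symm]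
  have hw : w = ∑ p, w p • toWord (2 ^ Golay.bit p) := by
    conv_lhs => rw [← Finset.univ_sum_single w]
    refine Finset.sum_congr rfl fun p _ => ?_
    rw [hs, ← Pi.single_smul, smul_eq_mul, mul_one]
  have hdiff : embL fm (dec w) - w ∈ θ.ker := by
    nth_rw 2 [hw]
    rw [dec, map_sum, ← Finset.sum_sub_distrib]
    refine AddSubgroup.sum_mem _ fun p _ => ?_
    rw [map_smul, ← smul_sub, embL_toV rfl]
    rcases zmod_two_cases (w p) with h | h <;> rw [h]
    · rw [zero_smul]
      exact zero_mem _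
    · rw [one_smul, AddMonoidHom.mem_ker, map_sub, sub_eq_zero]
      exact theta_eq θ hker (Comp.PermCode.allLt_spec fm_check.2.2 _ (bit_lt p))
  rwa [AddMonoidHom.mem_ker, map_sub, sub_eq_zero] at hdiff

/-- A copy of the extension problem with normalised lifts. -/
structure Lifted (E : Type*) [Group E] where
  /-- The projection. -/
  π : E →* ↥Spor.M23
  π_surj : Function.Surjective π
  /-- The kernel map. -/
  jv : V → E
  jv_add : ∀ a b, jv (a + b) = jv a * jv b
  jv_inj : Function.Injective jv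
  ker : ∀ x, π x = 1 ↔ ∃ v, jv v = x
  /-- The lifts. -/
  e : ℕ → E
  e_spec : ∀ a < codes.length, π (e a) = el t23 (codes.getD a 0)
  conj : ∀ g v, g * jv v * g⁻¹ = jv (actD (π g) v)
  rel : ∀ r < 28, wv e (pres.lhs r) = jv (toV (cert.alpha.getD r 0)) * wv e (pres.rhs r)

theorem exists_lifted [Finite E] [hN : N.Normal]
    (φ : E ⧸ N ≃* ↥Cfsg.Spor.M23) (θ : (Cfsg.GolayPt → ZMod 2) →+ Additive ↥N)
    (hsurj : Function.Surjective θ)
    (hker : ∀ w : Cfsg.GolayPt → ZMod 2, θ w = 0 ↔ (w ∈ Cfsg.golayCode ∨ w + Pi.single none 1 ∈ Cfsg.golayCode))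
    (hθ : ∀ (g : E) (w : Cfsg.GolayPt → ZMod 2),
      ((θ (w ∘ ⇑(((φ (QuotientGroup.mk g) : ↥Cfsg.Spor.M23) : Equiv.Perm Cfsg.GolayPt)⁻¹))).toMul : E)
        = g * ((θ w).toMul : E) * g⁻¹)
    (hns : ∀ H : Subgroup E, H ⊓ N = ⊥ → H ⊔ N ≠ ⊤) :
    Nonempty (Lifted E) := by
  set π : E →* ↥Spor.M23 := φ.toMonoidHom.comp (QuotientGroup.mk' N) with hπ
  have hπs : Function.Surjective π := φ.surjective.comp QuotientGroup.mk_surjective
  have hπk : π.ker = N := by
    ext x
    rw [MonoidHom.mem_ker, hπ]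
    exact (map_eq_one_iff φ φ.injective).trans (QuotientGroup.eq_one_iff x)
  set jv : V → E := fun v => ((θ (embL fm v)).toMul : E) with hjv
  have hadd : ∀ u w, jv (u + w) = jv u * jv w := by
    intro u w
    show ((θ (embL fm (u + w))).toMul : E) = _
    rw [map_add, map_add]
    rfl
  have hzero : jv 0 = 1 := by
    have h := hadd 0 0
    rw [add_zero] at h
    exact left_eq_mul.1 h
  have hkz : ∀ v, θ (embL fm v) = 0 → v = 0 := by
    intro v hv
    obtain ⟨n, hn, rfl⟩ := toV_surj v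
    rw [embL_toV rfl, hker] at hv
    have h := Comp.PermCode.allLt_spec fm_check.1 n hn
    have hlt : combL fm n < 16777216 := Nat.le_of_ble_eq_true (Comp.PermCode.allLt_spec fm_check.2.1 n hn)
    simp only [Bool.or_eq_true, Nat.beq_eq, Bool.not_eq_true', Bool.or_eq_false_iff] at h
    rcases h with h | ⟨h1, h2⟩
    · rw [h, toV_zero]
    · exfalso
      rcases hv with hv | hv
      · rw [(toWord_mem_iff hlt).1 hv] at h1
        exact Bool.noConfusion h1
      · rw [← toWord_extra, ← toWord_xor] at hv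
        have h3 := (toWord_mem_iff (Nat.xor_lt_two_pow (n := 24) hlt (by norm_num))).1 hv
        exact Bool.noConfusion (h3.symm.trans h2)
  have hji : Function.Injective jv := fun u w h => by
    have h' : θ (embL fm u) = θ (embL fm w) := Additive.toMul.injective (Subtype.ext h)
    have h0 : θ (embL fm (u - w)) = 0 := by rw [map_sub, map_sub, h', sub_self]
    exact sub_eq_zero.1 (hkz _ h0)
  have hrange : ∀ w, ∃ v, θ (embL fm v) = θ w := fun w => ⟨dec w, theta_dec θ hker w⟩
  have hk : ∀ x, π x = 1 ↔ ∃ v, jv v = x := by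
    intro x
    rw [← MonoidHom.mem_ker, hπk]
    refine ⟨fun hx => ?_, fun ⟨v, hv⟩ => hv ▸ (θ (embL fm v)).toMul.2⟩
    obtain ⟨w, hw⟩ := hsurj (Additive.ofMul ⟨x, hx⟩)
    obtain ⟨v, hv⟩ := hrange w
    refine ⟨v, ?_⟩
    show ((θ (embL fm v)).toMul : E) = x
    rw [hv, hw]
    rfl
  have hconj : ∀ a < codes.length, ∀ g : E, π g = el t23 (codes.getD a 0) →
      ∀ v, g * jv v = jv (pres.A a v) * g := by
    intro a ha g hg v
    have hok : t23.ok (codes.getD a 0) = true := by
      rw [List.getD_eq_getElem _ _ ha]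
      exact List.all_eq_true.1 mats_check.2 _ (List.getElem_mem ha)
    have hcol := Comp.PermCode.allLt_spec mats_check.1 a ha
    set σ : Equiv.Perm GolayPt := ((el t23 (codes.getD a 0) : t23.S) : Equiv.Perm GolayPt) with hσ
    have key : θ (embL fm (pres.A a v) ∘ ⇑σ) = θ (embL fm v) := by
      have hdiff : embL fm (pres.A a v) ∘ ⇑σ - embL fm v ∈ θ.ker := by
        rw [Pres.A, embL_mat _ _ rfl, sum_comp, embL_apply, ← Finset.sum_sub_distrib]
        refine AddSubgroup.sum_mem _ fun i _ => ?_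
        rw [← pull_word hok, ← smul_sub]
        rcases zmod_two_cases (v i) with h | h <;> rw [h]
        · rw [zero_smul]
          exact zero_mem _
        · rw [one_smul, AddMonoidHom.mem_ker, map_sub, sub_eq_zero]
          exact theta_eq θ hker (Comp.PermCode.allLt_spec hcol i i.2)
      rwa [AddMonoidHom.mem_ker, map_sub, sub_eq_zero] at hdiff
    have h := hθ g (embL fm (pres.A a v) ∘ ⇑σ)
    rw [show ((φ (QuotientGroup.mk g) : ↥Spor.M23) : Equiv.Perm GolayPt) = σ from congrArg Subtype.val hg,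
      key, Function.comp_assoc, show (⇑σ ∘ ⇑σ⁻¹) = id from funext fun p => σ.apply_symm_apply p,
      Function.comp_id] at h
    exact (eq_mul_inv_iff_mul_eq.1 h).symm
  obtain ⟨e, c, he, hr⟩ := exists_lifts π hπs jv hadd hji hk cert_check hconj
  rcases zmod_two_cases c with rfl | rfl
  · exfalso
    obtain ⟨H, h1, h2⟩ := M23Ext.exists_complement π hπs jv hadd hji hk shape_check (gs := sylGens) rfl
      (ws := sylWords) rfl syl_check e
      (fun a ha => by rw [he a (lt_of_lt_of_le ha gens_check.2), ← gens_check.1 ⟨a, ha⟩])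
      fun r hr' => by rw [← Pres.lhs, ← Pres.rhs, hr r hr', zero_smul, hzero, one_mul]
    rw [hπk] at h1 h2
    exact hns H h1 h2
  · exact ⟨⟨π, hπs, jv, hadd, hji, hk, e, he, fun g v => by
      show _ = ((θ (embL fm (actD (π g) v))).toMul : E)
      rw [actD, theta_dec θ hker]
      exact (hθ g (embL fm v)).symm, fun r hr' => by rw [hr r hr', one_smul]⟩⟩

section Iso

variable {F : Type*} [Group F] (D : Lifted E) (D' : Lifted F)

theorem Lifted.jv_zero : D.jv 0 = 1 := by
  have h := D.jv_add 0 0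
  rw [add_zero] at h
  exact left_eq_mul.1 h

theorem Lifted.jv_inv (v : V) : (D.jv v)⁻¹ = D.jv v :=
  inv_eq_of_mul_eq_one_right (by
    rw [← D.jv_add, show v + v = 0 from funext fun i => CharTwo.add_self_eq_zero (v i), D.jv_zero])

theorem Lifted.π_jv (v : V) : D.π (D.jv v) = 1 := (D.ker _).2 ⟨v, rfl⟩

theorem wv_prod {G H : Type*} [Group G] [Group H] (f : G →* H) (e : ℕ → G) (w : List ℕ) :
    f (wv e w) = wv (fun a => f (e a)) w := by
  rw [wv, wv, map_list_prod, List.map_map]
  rfl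

/-- Two normalised extensions are isomorphic: a complement in the quotient of the fibre product. -/
theorem nonempty_mulEquiv [Finite E] [Finite F] (D : Lifted E) (D' : Lifted F) :
    Nonempty (E ≃* F) := by
  let P : Subgroup (E × F) :=
    (D.π.comp (MonoidHom.fst E F)).eqLocus (D'.π.comp (MonoidHom.snd E F))
  have hP : ∀ p : E × F, p ∈ P ↔ D.π p.1 = D'.π p.2 := fun _ => Iff.rfl
  let δ : Multiplicative V →* ↥P :=
    MonoidHom.mk' (fun u => ⟨(D.jv u.toAdd, D'.jv u.toAdd), (hP _).2 (by rw [D.π_jv, D'.π_jv])⟩)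
      fun a b => Subtype.ext (Prod.ext (D.jv_add _ _) (D'.jv_add _ _))
  have hδn : δ.range.Normal := ⟨fun x hx g => by
    obtain ⟨u, rfl⟩ := hx
    refine ⟨Multiplicative.ofAdd (actD (D.π g.1.1) u.toAdd), Subtype.ext (Prod.ext ?_ ?_)⟩
    · exact (D.conj _ _).symm
    · show D'.jv (actD (D.π g.1.1) u.toAdd) = g.1.2 * D'.jv u.toAdd * g.1.2⁻¹
      rw [D'.conj, (hP g.1).1 g.2]⟩
  let mk := QuotientGroup.mk' δ.range
  let π₀ : ↥P →* ↥Spor.M23 := (D.π.comp (MonoidHom.fst E F)).comp P.subtype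
  let πQ : ↥P ⧸ δ.range →* ↥Spor.M23 := QuotientGroup.lift δ.range π₀ (by
    rintro _ ⟨u, rfl⟩
    exact D.π_jv _)
  have hjl : ∀ u w, (D.jv u, D'.jv w) ∈ P := fun u w => (hP _).2 (by rw [D.π_jv, D'.π_jv])
  have hone : ∀ u, (D.jv u, (1 : F)) ∈ P := fun u => (hP _).2 (by rw [D.π_jv, map_one])
  let jQ : V → ↥P ⧸ δ.range := fun u => mk ⟨_, hone u⟩
  have hadd : ∀ u w, jQ (u + w) = jQ u * jQ w := fun u w => by
    rw [← map_mul]
    exact congrArg mk (Subtype.ext (Prod.ext (D.jv_add u w) (mul_one (1 : F)).symm))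
  have hdiag : ∀ u w, mk ⟨_, hjl u w⟩ = jQ (u + w) := fun u w => by
    refine (QuotientGroup.eq).2 ⟨Multiplicative.ofAdd w, Subtype.ext (Prod.ext ?_ ?_)⟩
    · show D.jv w = (D.jv u)⁻¹ * D.jv (u + w)
      rw [D.jv_inv, ← D.jv_add, ← add_assoc,
        show u + u = 0 from funext fun i => CharTwo.add_self_eq_zero (u i), zero_add]
    · show D'.jv w = (D'.jv w)⁻¹ * 1
      rw [D'.jv_inv, mul_one]
  have hker : ∀ x, πQ x = 1 ↔ ∃ v, jQ v = x := by
    intro x
    obtain ⟨⟨⟨a, b⟩, hp⟩, rfl⟩ := QuotientGroup.mk'_surjective δ.range x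
    refine ⟨fun h => ?_, fun ⟨v, hv⟩ => ?_⟩
    · obtain ⟨u, rfl⟩ := (D.ker a).1 h
      obtain ⟨w, rfl⟩ := (D'.ker b).1 (((hP _).1 hp).symm.trans (D.π_jv u))
      exact ⟨u + w, (hdiag u w).symm⟩
    · rw [← hv]
      exact D.π_jv v
  have h0 : jQ 0 = 1 := by
    have h := hadd 0 0
    rw [add_zero] at h
    exact left_eq_mul.1 h
  have hinj : Function.Injective jQ := fun u w h => by
    obtain ⟨z, hz⟩ := (QuotientGroup.eq).1 h
    have h1 : D'.jv z.toAdd = 1 := (congrArg (fun q : ↥P => q.1.2) hz).trans (by simp)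
    have h2 : D.jv z.toAdd = (D.jv u)⁻¹ * D.jv w := congrArg (fun q : ↥P => q.1.1) hz
    rw [D'.jv_inj (h1.trans D'.jv_zero.symm), D.jv_zero] at h2
    exact D.jv_inj (inv_mul_eq_one.1 h2.symm)
  have hπQ : Function.Surjective πQ := fun σ => by
    obtain ⟨a, ha⟩ := D.π_surj σ
    obtain ⟨b, hb⟩ := D'.π_surj σ
    exact ⟨mk ⟨(a, b), (hP _).2 (ha.trans hb.symm)⟩, ha⟩
  -- lifts of the Sylow subgroup
  let eP : ℕ → ↥P := fun a => if h : a < 7 then
    ⟨(D.e a, D'.e a), (hP _).2 (by
      rw [D.e_spec a (lt_of_lt_of_le h gens_check.2), D'.e_spec a (lt_of_lt_of_le h gens_check.2)])⟩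
    else 1
  have hrel : ∀ r < 28, wv (fun a => mk (eP a)) (pres.lhs r) = wv (fun a => mk (eP a)) (pres.rhs r) := by
    intro r hr
    rw [← wv_prod mk, ← wv_prod mk]
    refine (QuotientGroup.eq).2 ?_
    have hlt := small_check r hr
    have e1 : ∀ w : List ℕ, (∀ a ∈ w, a < 7) → (wv eP w).1 = (wv D.e w, wv D'.e w) := fun w hw => by
      refine Prod.ext ?_ ?_
      · show ((MonoidHom.fst E F).comp P.subtype) (wv eP w) = _
        rw [wv_prod, wv, wv]
        refine congrArg List.prod (List.map_congr_left fun a ha => ?_)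
        simp [eP, hw a ha]
      · show ((MonoidHom.snd E F).comp P.subtype) (wv eP w) = _
        rw [wv_prod, wv, wv]
        refine congrArg List.prod (List.map_congr_left fun a ha => ?_)
        simp [eP, hw a ha]
    set al := toV (cert.alpha.getD r 0)
    have e2 : wv eP (pres.lhs r) = δ (Multiplicative.ofAdd al) * wv eP (pres.rhs r) := by
      refine Subtype.ext ?_
      rw [Subgroup.coe_mul, e1 _ hlt.1, e1 _ hlt.2]
      exact Prod.ext (D.rel r hr) (D'.rel r hr)
    rw [e2, mul_inv_rev]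
    exact hδn.conj_mem' _ (inv_mem ⟨_, rfl⟩) _
  obtain ⟨H, hH1, hH2⟩ := M23Ext.exists_complement πQ hπQ jQ hadd hinj hker shape_check
    (gs := sylGens) rfl (ws := sylWords) rfl syl_check (fun a => mk (eP a))
    (fun a ha => by
      show D.π (eP a).1.1 = _
      simp only [eP, dif_pos ha]
      rw [D.e_spec a (lt_of_lt_of_le ha gens_check.2), ← gens_check.1 ⟨a, ha⟩]) hrel
  -- the graph of the isomorphism
  set C := H.comap mk with hC
  have hdC : ∀ u, (⟨_, hjl u u⟩ : ↥P) ∈ C := fun u => by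
    rw [hC, Subgroup.mem_comap, hdiag, show u + u = 0 from funext fun i => CharTwo.add_self_eq_zero (u i)]
    rw [h0]
    exact H.one_mem
  have hCk : ∀ u w, (⟨_, hjl u w⟩ : ↥P) ∈ C → u = w := fun u w h => by
    have h1 : jQ (u + w) ∈ H ⊓ πQ.ker := ⟨hdiag u w ▸ h, (hker _).2 ⟨_, rfl⟩⟩
    rw [hH1, Subgroup.mem_bot] at h1
    have h2 : u + w = u + u := by
      rw [hinj (h1.trans h0.symm), show u + u = 0 from funext fun i => CharTwo.add_self_eq_zero (u i)]
    exact (add_left_cancel h2).symm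
  have hsurj : ∀ p : ↥P, ∃ u, ∃ q ∈ C, p = ⟨_, hone u⟩ * q := fun p => by
    have hx : mk p ∈ H ⊔ πQ.ker := by rw [hH2]; trivial
    rw [sup_comm, Subgroup.mem_sup_of_normal_left] at hx
    obtain ⟨k, hk, h, hh, e⟩ := hx
    obtain ⟨u, rfl⟩ := (hker k).1 hk
    refine ⟨u, (⟨_, hone u⟩ : ↥P)⁻¹ * p, ?_, (mul_inv_cancel_left _ _).symm⟩
    rw [hC, Subgroup.mem_comap, map_mul, map_inv, ← e, inv_mul_cancel_left]
    exact hh
  let f : ↥C →* E := ((MonoidHom.fst E F).comp P.subtype).comp C.subtype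
  let g : ↥C →* F := ((MonoidHom.snd E F).comp P.subtype).comp C.subtype
  have hf : Function.Bijective f := by
    refine ⟨(injective_iff_map_eq_one f).2 ?_, fun a => ?_⟩
    · rintro ⟨⟨⟨a, b⟩, hp⟩, hc⟩ h
      change a = 1 at h
      subst h
      obtain ⟨w, rfl⟩ := (D'.ker b).1 (((hP _).1 hp).symm.trans (map_one _))
      have h3 := hCk 0 w (by convert hc using 3; exact D.jv_zero)
      subst h3
      exact Subtype.ext (Subtype.ext (Prod.ext rfl D'.jv_zero))
    · obtain ⟨b, hb⟩ := D'.π_surj (D.π a)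
      obtain ⟨u, q, hq, e⟩ := hsurj ⟨(a, b), (hP _).2 hb.symm⟩
      refine ⟨⟨⟨_, hjl u u⟩ * q, mul_mem (hdC u) hq⟩, ?_⟩
      exact (congrArg (fun z : ↥P => z.1.1) e).symm
  have hg : Function.Bijective g := by
    refine ⟨(injective_iff_map_eq_one g).2 ?_, fun b => ?_⟩
    · rintro ⟨⟨⟨a, b⟩, hp⟩, hc⟩ h
      change b = 1 at h
      subst h
      obtain ⟨u, rfl⟩ := (D.ker a).1 (((hP _).1 hp).trans (map_one _))
      have h3 := hCk u 0 (by convert hc using 3; exact D'.jv_zero)
      subst h3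
      exact Subtype.ext (Subtype.ext (Prod.ext D.jv_zero rfl))
    · obtain ⟨a, ha⟩ := D.π_surj (D'.π b)
      obtain ⟨u, q, hq, e⟩ := hsurj ⟨(a, b), (hP _).2 ha⟩
      refine ⟨⟨q, hq⟩, ?_⟩
      exact ((congrArg (fun z : ↥P => z.1.2) e).trans (one_mul _)).symm
  exact ⟨(MulEquiv.ofBijective f hf).symm.trans (MulEquiv.ofBijective g hg)⟩

end Iso

end CfsgLib.M23Ext.Dual
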