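import Cfsg.Agent.Lib.Sporadic.M23Ext.Sym
import Cfsg.Agent.Lib.Schur.Mathieu
import Cfsg.Agent.Lib.Solvable.Gaschutz

/-!
An extension of M23 by an abelian 2-group splits when lifts of generators of a Sylow 2-subgroup satisfy
the relations of these generators.
-/

set_option autoImplicit false

namespace CfsgLib.M23Ext

open Cfsg CfsgLib.Cocode CfsgLib.SchurCoded Subgroup

/-- The index of the relation with left side `[j, i]`. -/
def ridx (j i : ℕ) : ℕ := j * (j + 1) / 2 + i

/-- The shape of a power-conjugate presentation on seven generators. -/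
noncomputable def shapeOK (rels : List (List ℕ × List ℕ)) : Bool :=
  Comp.PermCode.allLt 7 fun j => Comp.PermCode.allLt (j + 1) fun i =>
    let p := rels.getD (ridx j i) ([], [])
    p.1 == [j, i] &&
      (bif Nat.beq i j then p.2.all (fun a => Nat.blt a j)
        else (p.2 == p.2.dropLast ++ [j]) && p.2.dropLast.all fun a => Nat.blt a j)

section Closure

variable {Q : Type*} [Group Q] [Finite Q]

theorem card_closure_step {H : Subgroup Q} {e : Q} (hsq : e * e ∈ H)
    (hn : ∀ h ∈ H, e * h * e⁻¹ ∈ H) :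
    Nat.card ↥(H ⊔ zpowers e) ≤ 2 * Nat.card H := by
  let K : Submonoid Q :=
    { carrier := {x | x ∈ H ∨ x * e⁻¹ ∈ H}
      one_mem' := Or.inl H.one_mem
      mul_mem' := by
        rintro x y (hx | hx) (hy | hy)
        · exact Or.inl (H.mul_mem hx hy)
        · exact Or.inr (by rw [mul_assoc]; exact H.mul_mem hx hy)
        · exact Or.inr (by
            have e1 : x * y * e⁻¹ = x * e⁻¹ * (e * y * e⁻¹) := by group
            rw [e1]; exact H.mul_mem hx (hn y hy))
        · exact Or.inl (by
            have e1 : x * y = x * e⁻¹ * (e * (y * e⁻¹) * e⁻¹) * (e * e) := by group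
            rw [e1]; exact H.mul_mem (H.mul_mem hx (hn _ hy)) hsq) }
  let K' : Subgroup Q :=
    { K with
      inv_mem' := fun {x} hx => by
        obtain ⟨n, hn⟩ := (mem_powers_iff_mem_zpowers (x := x) (y := x⁻¹)).2 (inv_mem (mem_zpowers x))
        exact hn ▸ K.pow_mem hx n }
  have hle : H ⊔ zpowers e ≤ K' :=
    sup_le (fun x hx => Or.inl hx) (zpowers_le.2 (Or.inr (by rw [mul_inv_cancel]; exact H.one_mem)))
  refine (Subgroup.card_le_of_le hle).trans ?_
  have hsurj : Function.Surjective (Sum.elim (fun h : H => (⟨h, Or.inl h.2⟩ : K'))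
      (fun h : H => ⟨h * e, Or.inr (by rw [mul_inv_cancel_right]; exact h.2)⟩)) := by
    rintro ⟨x, hx | hx⟩
    · exact ⟨Sum.inl ⟨x, hx⟩, rfl⟩
    · exact ⟨Sum.inr ⟨_, hx⟩, Subtype.ext (inv_mul_cancel_right x e)⟩
  refine (Nat.card_le_card_of_surjective _ hsurj).trans ?_
  rw [Nat.card_sum]
  omega

theorem wv_mem {e : ℕ → Q} {H : Subgroup Q} {w : List ℕ} (h : ∀ a ∈ w, e a ∈ H) : wv e w ∈ H :=
  list_prod_mem fun x hx => by
    obtain ⟨a, ha, rfl⟩ := List.mem_map.1 hx
    exact h a ha

theorem card_closure_pc {rels : List (List ℕ × List ℕ)} (hs : shapeOK rels = true) {e : ℕ → Q}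
    (he : ∀ r < 28, wv e (rels.getD r ([], [])).1 = wv e (rels.getD r ([], [])).2) :
    ∀ k ≤ 7, Nat.card (closure {x | ∃ a < k, e a = x}) ≤ 2 ^ k
  | 0, _ => by
    have : closure {x : Q | ∃ a < 0, e a = x} = ⊥ := by
      rw [closure_eq_bot_iff]
      rintro x ⟨a, ha, -⟩
      exact absurd ha (Nat.not_lt_zero a)
    rw [this, Subgroup.card_bot, pow_zero]
  | k + 1, hk => by
    set H := closure {x : Q | ∃ a < k, e a = x} with hH
    have hmem : ∀ a < k, e a ∈ H := fun a ha => subset_closure ⟨a, ha, rfl⟩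
    have hshape := fun i (hi : i < k + 1) => Comp.PermCode.allLt_spec
      (Comp.PermCode.allLt_spec hs k (by omega)) i hi
    have hidx : ∀ i, i < k + 1 → ridx k i < 28 := fun i hi => by
      have h1 : k * (k + 1) / 2 ≤ 6 * 7 / 2 :=
        Nat.div_le_div_right (Nat.mul_le_mul (by omega) (by omega))
      unfold ridx
      omega
    have hsq : e k * e k ∈ H := by
      have h := hshape k (by omega)
      simp only [Bool.and_eq_true, beq_iff_eq, show Nat.beq k k = true from Nat.beq_refl k,
        cond_true, List.all_eq_true, Nat.blt_eq] at h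
      have h2 := he _ (hidx k (by omega))
      rw [h.1] at h2
      rw [show e k * e k = wv e [k, k] by simp [wv], h2]
      exact wv_mem fun a ha => hmem a (h.2 a ha)
    have hn : ∀ x ∈ H, e k * x * (e k)⁻¹ ∈ H := by
      intro x hx
      have hle : H ≤ H.comap (MulAut.conj (e k)).toMonoidHom := by
        rw [hH, closure_le]
        rintro y ⟨i, hi, rfl⟩
        show e k * e i * (e k)⁻¹ ∈ H
        have hne : Nat.beq i k = false := by
          rw [← Bool.not_eq_true, Nat.beq_eq]; omega
        have h := hshape i (by omega)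
        simp only [Bool.and_eq_true, beq_iff_eq, hne, cond_false, List.all_eq_true, Nat.blt_eq] at h
        have h2 := he _ (hidx i (by omega))
        rw [h.1, h.2.1] at h2
        rw [show e k * e i = wv e [k, i] by simp [wv], h2, wv_append,
          show wv e [k] = e k by simp [wv], mul_inv_cancel_right]
        exact wv_mem fun a ha => hmem a (h.2.2 a ha)
      exact hle hx
    have hsup : closure {x : Q | ∃ a < k + 1, e a = x} ≤ H ⊔ zpowers (e k) := by
      rw [closure_le]
      rintro x ⟨a, ha, rfl⟩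
      rcases Nat.lt_succ_iff_lt_or_eq.1 ha with h | rfl
      · exact le_sup_left (b := zpowers (e k)) (hmem a h)
      · exact le_sup_right (a := H) (mem_zpowers _)
    refine (Subgroup.card_le_of_le hsup).trans ((card_closure_step hsq hn).trans ?_)
    rw [pow_succ']
    exact Nat.mul_le_mul_left 2 (card_closure_pc hs he k (by omega))

end Closure

/-- The checks of the codes: the words are increasing elements of M23. -/
noncomputable def eltsOK (gs : List ℕ) (ws : List (List ℕ)) : Bool :=
  (ws.all fun w => wordOk gs w && (word gs w).all t23.ok) && incr (ws.map fun w => prodc (word gs w))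

variable {Q : Type*} [Group Q] [Finite Q]

theorem exists_complement (π : Q →* ↥Spor.M23) (hπ : Function.Surjective π)
    (jv : V → Q) (hadd : ∀ a b, jv (a + b) = jv a * jv b) (hinj : Function.Injective jv)
    (hker : ∀ x, π x = 1 ↔ ∃ v, jv v = x)
    {rels : List (List ℕ × List ℕ)} (hs : shapeOK rels = true)
    {gs : List ℕ} (hgs : gs.length = 7) {ws : List (List ℕ)} (hws : ws.length = 128)
    (hel : eltsOK gs ws = true) (e : ℕ → Q) (he : ∀ a < 7, π (e a) = el t23 (gs.getD a 0))
    (hrel : ∀ r < 28, wv e (rels.getD r ([], [])).1 = wv e (rels.getD r ([], [])).2) :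
    ∃ H : Subgroup Q, H ⊓ π.ker = ⊥ ∧ H ⊔ π.ker = ⊤ := by
  set A := closure {x : Q | ∃ a < 7, e a = x} with hA
  have hAc : Nat.card A ≤ 128 := card_closure_pc hs hrel 7 le_rfl
  set S := A.map π with hS
  have hSc : 128 ≤ Nat.card S := by
    rw [eltsOK, Bool.and_eq_true] at hel
    rw [← hws]
    refine card_ge_of_words (τ := t23) (gs := gs) (fun c hc => ?_) hel.1 hel.2
    obtain ⟨a, ha, rfl⟩ := List.getElem_of_mem hc
    refine ⟨e a, subset_closure ⟨a, by omega, rfl⟩, ?_⟩
    rw [he a (by omega), List.getD_eq_getElem _ _ ha]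
  have hsurjA : Function.Surjective (π.subgroupMap A) := π.subgroupMap_surjective A
  have hcard : Nat.card S = 128 := le_antisymm ((Nat.card_le_card_of_surjective _ hsurjA).trans hAc) hSc
  have hinjA : Function.Injective (π.subgroupMap A) :=
    (hsurjA.bijective_of_nat_card_le (hAc.trans hSc)).1
  have hAK : A ⊓ π.ker = ⊥ := (Subgroup.eq_bot_iff_forall _).2 fun x hx =>
    congrArg Subtype.val (hinjA (a₁ := ⟨x, hx.1⟩) (a₂ := 1)
      (Subtype.ext (show π x = π 1 by rw [MonoidHom.mem_ker.1 hx.2, map_one])))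
  have hK : ∀ x ∈ π.ker, ∃ v, jv v = x := fun x hx => (hker x).1 hx
  have : IsMulCommutative π.ker := ⟨⟨fun a b => Subtype.ext (by
    obtain ⟨u, hu⟩ := hK a a.2
    obtain ⟨w, hw⟩ := hK b b.2
    show (a : Q) * b = b * a
    rw [← hu, ← hw, ← hadd, ← hadd, add_comm])⟩⟩
  have hKc : Nat.card π.ker = 2 ^ 11 := by
    rw [← Nat.card_congr (Equiv.ofBijective (fun v : V => (⟨jv v, (hker _).2 ⟨v, rfl⟩⟩ : π.ker))
      ⟨fun a b h => hinj (congrArg Subtype.val h), fun x => ?_⟩)]
    · simp [Nat.card_eq_fintype_card]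
    · obtain ⟨v, hv⟩ := hK x x.2
      exact ⟨v, Subtype.ext hv⟩
  have hidx : (π.ker ⊔ A).index = 79695 := by
    rw [sup_comm, ← Subgroup.comap_map_eq, ← hS, Subgroup.index_comap_of_surjective _ hπ]
    have h := Subgroup.card_mul_index S
    rw [hcard, Golay.card_M23] at h
    omega
  obtain ⟨H, hH⟩ := Solvable.exists_isComplement'_of_le (K := π.ker) (A := A) (U := π.ker ⊔ A)
    le_sup_left (by rw [hKc, hidx]; decide) hAK rfl
  exact ⟨H, by rw [inf_comm]; exact hH.disjoint.eq_bot, by rw [sup_comm]; exact hH.sup_eq_top⟩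

end CfsgLib.M23Ext
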