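import Cfsg.Agent.Lib.Sporadic.M23Ext.Base
import Cfsg.Agent.Lib.Sporadic.M23Ext.GolayData

/-!
Extensions of M23 by the code words vanishing at the extra point split.
-/

set_option autoImplicit false

namespace CfsgLib.M23Ext.Golay

open Cfsg CfsgLib.Cocode CfsgLib.SchurCoded CfsgLib.M24Elt CfsgLib.Golay CfsgLib.M23Ext

/-- The check of the matrix of a letter. -/
noncomputable def matOK (a : ℕ) : Bool :=
  Comp.PermCode.allLt 11 fun i =>
    Nat.beq (pull (codes.getD a 0) (combL Data.cb ((pres.mats.getD a []).getD i 0))) (bI' i)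
where
  /-- The basis masks. -/
  bI' (i : ℕ) : ℕ := Data.cb.getD i 0

theorem mats_check : Comp.PermCode.allLt codes.length matOK = true ∧ codes.all t23.ok = true := by
  decide +kernel

theorem cert_check : certOK codes pres cert = true := by decide +kernel

theorem shape_check : shapeOK pres.rels = true := by decide +kernel

theorem alpha_check : (∀ r : Fin 28, cert.alpha.getD r 0 = 0) ∧
    (∀ a : Fin 7, sylGens.getD a 0 = codes.getD a 0) ∧ 7 ≤ codes.length := by
  decide +kernel

theorem emb_eq_embL : emb = embL Data.cb := rfl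

theorem emb_A {a : ℕ} (ha : a < codes.length) (v : V) :
    emb (pres.A a v) ∘ ⇑((el t23 (codes.getD a 0) : t23.S) : Equiv.Perm GolayPt) = emb v := by
  have hok : t23.ok (codes.getD a 0) = true := by
    rw [List.getD_eq_getElem _ _ ha]
    exact List.all_eq_true.1 mats_check.2 _ (List.getElem_mem ha)
  rw [emb_eq_embL, Pres.A, embL_mat _ _ rfl, sum_comp, embL_apply]
  refine Finset.sum_congr rfl fun i _ => ?_
  rw [← pull_word hok]
  have h := Comp.PermCode.allLt_spec (Comp.PermCode.allLt_spec mats_check.1 a ha) i i.2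
  rw [Nat.eq_of_beq_eq_true h]
  rfl

theorem exists_complement {E : Type*} [Group E] [Finite E] (N : Subgroup E) [hN : N.Normal]
    (φ : E ⧸ N ≃* ↥Cfsg.Spor.M23)
    (ψ : Additive ↥N →+ (Cfsg.GolayPt → ZMod 2)) (hinj : Function.Injective ψ)
    (hrange : ∀ w : Cfsg.GolayPt → ZMod 2, w ∈ Set.range ψ ↔ (w ∈ Cfsg.golayCode ∧ w none = 0))
    (hψ : ∀ (g : E) (n : ↥N),
      ψ (Additive.ofMul ⟨g * n * g⁻¹, hN.conj_mem n n.2 g⟩)
        = ψ (Additive.ofMul n) ∘ ⇑(((φ (QuotientGroup.mk g) : ↥Cfsg.Spor.M23) : Equiv.Perm Cfsg.GolayPt)⁻¹)) :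
    ∃ H : Subgroup E, H ⊓ N = ⊥ ∧ H ⊔ N = ⊤ := by
  set π : E →* ↥Spor.M23 := φ.toMonoidHom.comp (QuotientGroup.mk' N) with hπ
  have hπs : Function.Surjective π := φ.surjective.comp QuotientGroup.mk_surjective
  have hπk : π.ker = N := by
    ext x
    rw [MonoidHom.mem_ker, hπ]
    exact (map_eq_one_iff φ φ.injective).trans (QuotientGroup.eq_one_iff x)
  choose n hn using fun v : V => (hrange (emb v)).2 (emb_mem v)
  set jv : V → E := fun v => ((n v).toMul : E) with hjv
  have hadd : ∀ u w, jv (u + w) = jv u * jv w := by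
    intro u w
    have h : n (u + w) = n u + n w := hinj (by rw [map_add, hn, hn, hn, map_add])
    show ((n (u + w)).toMul : E) = _
    rw [h]
    rfl
  have hji : Function.Injective jv := fun u w h => emb_injective (by
    rw [← hn u, ← hn w, show n u = n w from Additive.toMul.injective (Subtype.ext h)])
  have hker : ∀ x, π x = 1 ↔ ∃ v, jv v = x := by
    intro x
    rw [← MonoidHom.mem_ker, hπk]
    refine ⟨fun hx => ?_, fun ⟨v, hv⟩ => hv ▸ (n v).toMul.2⟩
    obtain ⟨h1, h2⟩ := (hrange (ψ (Additive.ofMul ⟨x, hx⟩))).1 ⟨_, rfl⟩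
    obtain ⟨v, hv⟩ := mem_range_emb h1 h2
    refine ⟨v, ?_⟩
    have h : n v = Additive.ofMul ⟨x, hx⟩ := hinj (by rw [hn, hv])
    show ((n v).toMul : E) = x
    rw [h]
    rfl
  have hconj : ∀ a < codes.length, ∀ g : E, π g = el t23 (codes.getD a 0) →
      ∀ v, g * jv v = jv (pres.A a v) * g := by
    intro a ha g hg v
    have h := hψ g (n v).toMul
    rw [ofMul_toMul, hn, show ((φ (QuotientGroup.mk g) : ↥Spor.M23) : Equiv.Perm GolayPt) =
      ((el t23 (codes.getD a 0) : t23.S) : Equiv.Perm GolayPt) from congrArg Subtype.val hg] at h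
    have e : emb (pres.A a v) = emb v ∘ ⇑((el t23 (codes.getD a 0) : t23.S) : Equiv.Perm GolayPt)⁻¹ := by
      funext p
      rw [← emb_A ha v, Function.comp_apply, Function.comp_apply, Equiv.Perm.coe_inv,
        Equiv.apply_symm_apply]
    rw [← e, ← hn (pres.A a v)] at h
    have h2 := congrArg (fun t => ((Additive.toMul t : ↥N) : E)) (hinj h)
    exact mul_inv_eq_iff_eq_mul.1 h2
  obtain ⟨e, c, he, hr⟩ := exists_lifts π hπs jv hadd hji hker cert_check hconj
  have hzero : jv 0 = 1 := by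
    have h := hadd 0 0
    rw [add_zero] at h
    exact left_eq_mul.1 h
  rw [← hπk]
  refine M23Ext.exists_complement π hπs jv hadd hji hker shape_check (gs := sylGens) rfl
    (ws := sylWords) rfl syl_check e (fun a ha => ?_) fun r hr' => ?_
  · rw [he a (lt_of_lt_of_le ha alpha_check.2.2), ← alpha_check.2.1 ⟨a, ha⟩]
  · rw [← Pres.lhs, ← Pres.rhs, hr r hr', alpha_check.1 ⟨r, hr'⟩, toV_zero, smul_zero, hzero,
      one_mul]

end CfsgLib.M23Ext.Golay
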