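import Cfsg.Agent.Lib.Sporadic.M23Ext.Ext

/-!
Normalised lifts of coded elements of M23 in an extension by a module of rank eleven.
-/

set_option autoImplicit false

namespace CfsgLib.M23Ext

open Cfsg CfsgLib.Cocode CfsgLib.SchurCoded

/-- The checks of a presentation against the codes of its letters. -/
noncomputable def relsOK (gs : List ℕ) (P : Pres) : Bool :=
  gs.all t23.ok && P.rels.all fun p =>
    wordOk gs p.1 && wordOk gs p.2 && eqw t23 (word gs p.1) (word gs p.2)

/-- All checks of a certificate. -/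
noncomputable def certOK (gs : List ℕ) (P : Pres) (C : NormalCert) : Bool :=
  relsOK gs P && Nat.ble 28 P.rels.length && Nat.ble (11 * P.rels.length) width &&
    C.pathsOK P P.rels.length gs.length && Comp.PermCode.allLt 28 fun r => C.relOK P r

variable {Q : Type*} [Group Q]

theorem map_wv (π : Q →* ↥Spor.M23) {gs : List ℕ} {e : ℕ → Q}
    (he : ∀ a < gs.length, π (e a) = el t23 (gs.getD a 0)) {w : List ℕ}
    (hw : wordOk gs w = true) : π (wv e w) = elw t23 (word gs w) := by
  rw [wv, map_list_prod, List.map_map, elw, word, List.map_map]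
  congr 1
  refine List.map_congr_left fun a ha => he a ?_
  simpa [Nat.blt_eq] using List.all_eq_true.1 hw a ha

theorem exists_lifts (π : Q →* ↥Spor.M23) (hπ : Function.Surjective π) (jv : V → Q)
    (hadd : ∀ a b, jv (a + b) = jv a * jv b) (hinj : Function.Injective jv)
    (hker : ∀ x, π x = 1 ↔ ∃ v, jv v = x) {gs : List ℕ} {P : Pres} {C : NormalCert}
    (h : certOK gs P C = true)
    (hconj : ∀ a < gs.length, ∀ g : Q, π g = el t23 (gs.getD a 0) →
      ∀ v, g * jv v = jv (P.A a v) * g) :
    ∃ (e : ℕ → Q) (c : ZMod 2), (∀ a < gs.length, π (e a) = el t23 (gs.getD a 0)) ∧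
      ∀ r < 28, wv e (P.lhs r) = jv (c • toV (C.alpha.getD r 0)) * wv e (P.rhs r) := by
  simp only [certOK, relsOK, Bool.and_eq_true, List.all_eq_true, Nat.ble_eq] at h
  obtain ⟨⟨⟨⟨⟨-, hrels⟩, h28⟩, hw⟩, hp⟩, hr⟩ := h
  choose L hL using fun a : ℕ => hπ (el t23 (gs.getD a 0))
  let M : Model P Q := ⟨jv, hadd, hinj, L, gs.length, fun a ha => hconj a ha (L a) (hL a)⟩
  have hrel : ∀ r < P.rels.length, wordOk gs (P.lhs r) = true ∧ wordOk gs (P.rhs r) = true ∧
      eqw t23 (word gs (P.lhs r)) (word gs (P.rhs r)) = true := by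
    intro r hrl
    have h1 := hrels _ (List.getElem_mem hrl)
    rw [Pres.lhs, Pres.rhs, List.getD_eq_getElem _ _ hrl]
    exact ⟨h1.1.1, h1.1.2, h1.2⟩
  have hval : ∀ r, ∃ v, r < P.rels.length → wv L (P.lhs r) = jv v * wv L (P.rhs r) := by
    intro r
    by_cases hrl : r < P.rels.length
    · obtain ⟨h1, h2, h3⟩ := hrel r hrl
      obtain ⟨v, hv⟩ := (hker (wv L (P.lhs r) * (wv L (P.rhs r))⁻¹)).1 (by
        rw [map_mul, map_inv, map_wv π (fun a _ => hL a) h1, map_wv π (fun a _ => hL a) h2,
          eqw_spec h3]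
        exact mul_inv_cancel _)
      exact ⟨v, fun _ => by rw [hv, inv_mul_cancel_right]⟩
    · exact ⟨0, fun h => absurd h hrl⟩
  choose v hv using hval
  obtain ⟨e, c, he, hn⟩ := M.exists_normal C (n := P.rels.length) (nS := 28) (v := v) hv hw h28 hp
    (fun r hr' => Comp.PermCode.allLt_spec hr r hr')
    (fun r hr' a ha => by
      obtain ⟨h1, h2, -⟩ := hrel r (by omega)
      rcases List.mem_append.1 ha with ha | ha
      · show a < gs.length
        simpa [Nat.blt_eq] using List.all_eq_true.1 h1 a ha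
      · show a < gs.length
        simpa [Nat.blt_eq] using List.all_eq_true.1 h2 a ha)
  refine ⟨e, c, fun a _ => ?_, hn⟩
  obtain ⟨m, hm⟩ := he a
  rw [hm, map_mul, show π (M.jv m) = 1 from (hker _).2 ⟨m, rfl⟩, one_mul]
  exact hL a

end CfsgLib.M23Ext
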