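import Cfsg.Agent.Lib.Sporadic.Cocode
import Cfsg.Agent.Lib.CosetEnum.Cert
import Cfsg.Agent.Lib.Comp.PermChain

/-!
Linear consequences of the relations in an extension by an elementary abelian group of rank eleven:
closed rewriting paths give linear equations between the values of the relations, and a certificate
puts these values into a normal form by a change of lifts.
-/

set_option autoImplicit false

namespace CfsgLib.M23Ext

open CfsgLib.Cocode

/-- Exclusive or over `i < n`. -/
noncomputable def xorR (n : ℕ) (f : ℕ → ℕ) : ℕ := Nat.rec 0 (fun i acc => acc ^^^ f i) n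

/-- Test a bit. -/
def tbit (c k : ℕ) : Bool := Nat.beq (Nat.land (Nat.shiftRight c k) 1) 1

theorem tbit_eq (c k : ℕ) : tbit c k = c.testBit k := by
  show Nat.beq ((c >>> k) &&& 1) 1 = _
  rw [Nat.and_one_is_mod, Nat.testBit_eq_decide_div_mod_eq, ← Nat.shiftRight_eq_div_pow]
  rcases Nat.mod_two_eq_zero_or_one (c >>> k) with h | h <;> rw [h] <;> rfl

/-- Width of the linear forms in the values of the relations. -/
def width : ℕ := 512

/-- Coordinate `k` of a symbolic vector: a linear form. -/
def blk (F k : ℕ) : ℕ := Nat.land (Nat.shiftRight F (k * width)) (2 ^ width - 1)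

theorem blk_def (F k : ℕ) : blk F k = (F >>> (k * width)) &&& (2 ^ width - 1) := rfl

theorem blk_lt (F k : ℕ) : blk F k < 2 ^ width := by
  rw [blk_def, Nat.and_two_pow_sub_one_eq_mod]
  exact Nat.mod_lt _ (Nat.two_pow_pos _)

theorem testBit_blk (F k t : ℕ) :
    (blk F k).testBit t = (decide (t < width) && F.testBit (k * width + t)) := by
  rw [blk_def, Nat.testBit_and, Nat.testBit_two_pow_sub_one, Nat.testBit_shiftRight]
  exact Bool.and_comm _ _

/-- The value of a linear form at the point `x`. -/
def ev (x : ℕ → ZMod 2) (m : ℕ) : ZMod 2 := ∑ t ∈ Finset.range width, b2z (m.testBit t) * x t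

/-- The value of a symbolic vector. -/
def evF (x : ℕ → ZMod 2) (F : ℕ) : V := fun k => ev x (blk F k)

theorem ev_zero (x : ℕ → ZMod 2) : ev x 0 = 0 := by simp [ev, b2z]

theorem ev_xor (x : ℕ → ZMod 2) (a b : ℕ) : ev x (a ^^^ b) = ev x a + ev x b := by
  simp only [ev, ← Finset.sum_add_distrib, Nat.testBit_xor, b2z_xor, add_mul]

theorem evF_zero (x : ℕ → ZMod 2) : evF x 0 = 0 := by
  funext k
  simp [evF, blk_def, ev_zero]

theorem evF_xor (x : ℕ → ZMod 2) (a b : ℕ) : evF x (a ^^^ b) = evF x a + evF x b := by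
  funext k
  have h : blk (a ^^^ b) k = blk a k ^^^ blk b k := Nat.eq_of_testBit_eq fun t => by
    simp only [testBit_blk, Nat.testBit_xor]
    cases decide (t < width) <;> simp
  simp only [evF, Pi.add_apply, h, ev_xor]

theorem evF_xorR (x : ℕ → ZMod 2) (f : ℕ → ℕ) :
    ∀ n, evF x (xorR n f) = ∑ i ∈ Finset.range n, evF x (f i)
  | 0 => by simpa [xorR] using evF_zero x
  | n + 1 => by
    rw [Finset.sum_range_succ, ← evF_xorR x f n, ← evF_xor]
    rfl

theorem blk_shift {b : ℕ} (hb : b < 2 ^ width) (k k' : ℕ) :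
    blk (b <<< (k' * width)) k = if k = k' then b else 0 := by
  refine Nat.eq_of_testBit_eq fun t => ?_
  have hbt : ∀ s, width ≤ s → b.testBit s = false := fun s hs =>
    Nat.testBit_lt_two_pow (lt_of_lt_of_le hb (Nat.pow_le_pow_right two_pos hs))
  rw [testBit_blk, Nat.testBit_shiftLeft]
  by_cases ht : t < width
  · rcases lt_trichotomy k k' with h | rfl | h
    · have : k * width + width ≤ k' * width := by
        rw [← Nat.succ_mul]; exact Nat.mul_le_mul_right _ h
      simp [ht, h.ne, show ¬ k' * width ≤ k * width + t by omega]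
    · simp [ht]
    · have : k' * width + width ≤ k * width := by
        rw [← Nat.succ_mul]; exact Nat.mul_le_mul_right _ h
      rw [hbt _ (by omega : width ≤ k * width + t - k' * width)]
      simp [h.ne']
  · simp only [ht, decide_false, Bool.false_and]
    split
    · exact (hbt t (by omega)).symm
    · simp

/-- The form `b` at the coordinates selected by `c`. -/
noncomputable def spread (c b : ℕ) : ℕ :=
  CosetEnum.strict b fun b => xorR 11 fun k => bif tbit c k then Nat.shiftLeft b (k * width) else 0

theorem evF_spread (x : ℕ → ZMod 2) (c : ℕ) {b : ℕ} (hb : b < 2 ^ width) :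
    evF x (spread c b) = ev x b • toV c := by
  rw [spread, CosetEnum.strict_eq, evF_xorR]
  funext i
  rw [Finset.sum_apply, Finset.sum_eq_single (i : ℕ)]
  · rw [tbit_eq]
    show _ = ev x b * b2z (c.testBit i)
    cases c.testBit (i : ℕ)
    · simp [evF_zero, b2z]
    · show ev x (blk (b <<< ((i : ℕ) * width)) i) = _
      simp [blk_shift hb, b2z]
  · intro j _ hj
    rw [tbit_eq]
    cases c.testBit j
    · simp [evF_zero]
    · show ev x (blk (b <<< (j * width)) i) = 0
      rw [blk_shift hb, if_neg fun e => hj e.symm, ev_zero]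
  · intro h
    exact absurd (Finset.mem_range.2 i.2) h

/-- A matrix applied to a symbolic vector. -/
noncomputable def actF (cols : List ℕ) (F : ℕ) : ℕ :=
  CosetEnum.strict F fun F => xorR 11 fun i => spread (cols.getD i 0) (blk F i)

/-- The matrix with the given columns. -/
noncomputable def mat (cols : List ℕ) : V →ₗ[ZMod 2] V :=
  Fintype.linearCombination (ZMod 2) fun i : Fin 11 => toV (cols.getD i 0)

theorem mat_apply (cols : List ℕ) (v : V) :
    mat cols v = ∑ i : Fin 11, v i • toV (cols.getD i 0) := rfl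

theorem evF_actF (x : ℕ → ZMod 2) (cols : List ℕ) (F : ℕ) :
    evF x (actF cols F) = mat cols (evF x F) := by
  rw [actF, CosetEnum.strict_eq, evF_xorR, mat_apply]
  simp only [evF_spread x _ (blk_lt _ _)]
  exact Finset.sum_range (fun i => ev x (blk F i) • toV (cols.getD i 0))

/-- The symbolic value of relation `r`. -/
noncomputable def varF (r : ℕ) : ℕ :=
  xorR 11 fun k => Nat.shiftLeft (2 ^ (11 * r + k)) (k * width)

/-- The point given by the values of the relations. -/
def pointOf (v : ℕ → V) (t : ℕ) : ZMod 2 := v (t / 11) ⟨t % 11, Nat.mod_lt _ (by norm_num)⟩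

theorem evF_varF (v : ℕ → V) {r : ℕ} (hr : 11 * r + 11 ≤ width) :
    evF (pointOf v) (varF r) = v r := by
  rw [varF, evF_xorR]
  funext i
  rw [Finset.sum_apply, Finset.sum_eq_single (i : ℕ)]
  · show ev _ (blk ((2 ^ (11 * r + (i : ℕ))) <<< ((i : ℕ) * width)) i) = _
    have hi := i.2
    rw [blk_shift (Nat.pow_lt_pow_right (by norm_num) (by omega)), if_pos rfl, ev,
      Finset.sum_eq_single (11 * r + (i : ℕ))]
    · rw [Nat.testBit_two_pow_self, pointOf, show b2z true = 1 from rfl, one_mul]
      congr 1
      · congr 1; omega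
      · exact Fin.ext (by simp [Nat.add_mod, Nat.mod_eq_of_lt hi])
    · intro t _ ht
      rw [Nat.testBit_two_pow_of_ne ht.symm, show b2z false = 0 from rfl, zero_mul]
    · intro h
      exact absurd (Finset.mem_range.2 (by omega)) h
  · intro j hj hne
    rw [Finset.mem_range] at hj
    show ev _ (blk ((2 ^ (11 * r + j)) <<< (j * width)) i) = 0
    rw [blk_shift (Nat.pow_lt_pow_right (by norm_num) (by omega)), if_neg fun e => hne e.symm,
      ev_zero]
  · intro h
    exact absurd (Finset.mem_range.2 i.2) h

attribute [local irreducible] evF width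

/-- Presentation data: for each letter a matrix, and relations between words. -/
structure Pres where
  /-- The matrices of the letters. -/
  mats : List (List ℕ)
  /-- The relations. -/
  rels : List (List ℕ × List ℕ)

/-- Left side of relation `r`. -/
def Pres.lhs (P : Pres) (r : ℕ) : List ℕ := (P.rels.getD r ([], [])).1

/-- Right side of relation `r`. -/
def Pres.rhs (P : Pres) (r : ℕ) : List ℕ := (P.rels.getD r ([], [])).2

/-- The action of a word on a symbolic vector. -/
noncomputable def Pres.actW (P : Pres) : List ℕ → ℕ → ℕ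
  | [], F => F
  | x :: w, F => actF (P.mats.getD x []) (P.actW w F)

/-- The matrix of a letter. -/
noncomputable def Pres.A (P : Pres) (x : ℕ) : V →ₗ[ZMod 2] V := mat (P.mats.getD x [])

/-- The matrix of a word. -/
noncomputable def Pres.AW (P : Pres) : List ℕ → V →ₗ[ZMod 2] V
  | [] => LinearMap.id
  | x :: w => (P.A x).comp (P.AW w)

theorem Pres.evF_actW (P : Pres) (x : ℕ → ZMod 2) : ∀ (w : List ℕ) (F : ℕ),
    evF x (P.actW w F) = P.AW w (evF x F)
  | [], _ => rfl
  | a :: w, F => by
    rw [Pres.actW, evF_actF, P.evF_actW x w F, Pres.AW, LinearMap.comp_apply, Pres.A]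

/-- A rewriting step: prefix, suffix, relation, direction. -/
abbrev Step : Type := List ℕ × List ℕ × ℕ × Bool

/-- The word before a step. -/
def Pres.src (P : Pres) : Step → List ℕ
  | (u, s, r, d) => u ++ (bif d then P.rhs r else P.lhs r) ++ s

/-- The word after a step. -/
def Pres.dst (P : Pres) : Step → List ℕ
  | (u, s, r, d) => u ++ (bif d then P.lhs r else P.rhs r) ++ s

/-- The steps form a path from `start` to `fin`, with valid relations. -/
def Pres.chain (P : Pres) (n : ℕ) (fin : List ℕ) : List ℕ → List Step → Bool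
  | w, [] => w == fin
  | w, st :: rest => (w == P.src st) && Nat.blt st.2.2.1 n && P.chain n fin (P.dst st) rest

/-- The symbolic sum along a path. -/
noncomputable def Pres.sumF (P : Pres) : List Step → ℕ
  | [] => 0
  | (u, _, r, _) :: rest => P.actW u (varF r) ^^^ P.sumF rest

section

variable {E : Type*} [Group E]

/-- The value of a word. -/
def wv (L : ℕ → E) (w : List ℕ) : E := (w.map L).prod

theorem wv_append (L : ℕ → E) (u w : List ℕ) : wv L (u ++ w) = wv L u * wv L w := by
  simp [wv]

theorem wv_cons (L : ℕ → E) (a : ℕ) (w : List ℕ) : wv L (a :: w) = L a * wv L w := by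
  simp [wv]

/-- A model: the kernel map, and lifts of the letters. -/
structure Model (P : Pres) (E : Type*) [Group E] where
  /-- The kernel. -/
  jv : V → E
  jv_add : ∀ a b, jv (a + b) = jv a * jv b
  jv_inj : Function.Injective jv
  /-- The letters. -/
  L : ℕ → E
  letters : ℕ
  conj : ∀ x < letters, ∀ v, L x * jv v = jv (P.A x v) * L x

variable {P : Pres} (M : Model P E)

theorem Model.jv_zero : M.jv 0 = 1 := by
  have h := M.jv_add 0 0
  rw [add_zero] at h
  exact left_eq_mul.1 h

theorem Model.jv_sq (v : V) : M.jv v * M.jv v = 1 := by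
  rw [← M.jv_add, show v + v = 0 from funext fun i => CharTwo.add_self_eq_zero (v i), M.jv_zero]

theorem Model.wv_conj : ∀ w : List ℕ, (∀ x ∈ w, x < M.letters) → ∀ v,
    wv M.L w * M.jv v = M.jv (P.AW w v) * wv M.L w
  | [], _, v => by simp [wv, Pres.AW]
  | a :: w, hw, v => by
    rw [wv_cons, mul_assoc, Model.wv_conj w (fun x hx => hw x (List.mem_cons_of_mem _ hx)), ← mul_assoc,
      M.conj a (hw a (List.mem_cons_self ..)), mul_assoc]
    rfl

/-- Values of the relations. -/
def Model.IsVal (n : ℕ) (v : ℕ → V) : Prop :=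
  ∀ r < n, wv M.L (P.lhs r) = M.jv (v r) * wv M.L (P.rhs r)

/-- Letters of the steps are in range. -/
def Pres.stepsOK (nl : ℕ) (steps : List Step) : Bool :=
  steps.all fun st => st.1.all fun x => Nat.blt x nl

theorem Model.chain_sound {n : ℕ} {v : ℕ → V} (hv : M.IsVal n v) (hn : 11 * n ≤ width)
    (fin : List ℕ) : ∀ (steps : List Step) (w : List ℕ), P.chain n fin w steps = true →
      Pres.stepsOK M.letters steps = true →
      wv M.L w = M.jv (evF (pointOf v) (P.sumF steps)) * wv M.L fin
  | [], w, h, _ => by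
    rw [Pres.chain, beq_iff_eq] at h
    subst h
    simp [Pres.sumF, evF_zero, M.jv_zero]
  | (u, s, r, d) :: rest, w, h, hl => by
    rw [Pres.chain, Bool.and_eq_true, Bool.and_eq_true, beq_iff_eq] at h
    obtain ⟨⟨rfl, hr⟩, hrest⟩ := h
    rw [Pres.stepsOK, List.all_cons, Bool.and_eq_true, List.all_eq_true] at hl
    have hr' : r < n := by simpa [Nat.blt_eq] using hr
    have ih := Model.chain_sound hv hn fin rest _ hrest hl.2
    have hu := M.wv_conj u (fun x hx => by simpa [Nat.blt_eq] using hl.1 x hx)
    have key : wv M.L (bif d then P.rhs r else P.lhs r) =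
        M.jv (v r) * wv M.L (bif d then P.lhs r else P.rhs r) := by
      cases d
      · exact hv r hr'
      · show wv M.L (P.rhs r) = _ * wv M.L (P.lhs r)
        rw [hv r hr', ← mul_assoc, M.jv_sq, one_mul]
    simp only [Pres.src, wv_append, key]
    rw [Pres.sumF, evF_xor, P.evF_actW, evF_varF v (by omega), M.jv_add,
      mul_assoc (M.jv (P.AW u (v r))), ← ih, Pres.dst, wv_append, wv_append]
    rw [← mul_assoc (wv M.L u) (M.jv (v r)), hu]
    simp only [mul_assoc]

theorem Model.closed_sound {n : ℕ} {v : ℕ → V} (hv : M.IsVal n v) (hn : 11 * n ≤ width)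
    {w : List ℕ} {steps : List Step} (h : P.chain n w w steps = true)
    (hl : Pres.stepsOK M.letters steps = true) : evF (pointOf v) (P.sumF steps) = 0 :=
  M.jv_inj (by rw [M.jv_zero]; exact right_eq_mul.1 (M.chain_sound hv hn w steps w h hl))

end

/-- A certificate for a normal form of the values of the first relations. -/
structure NormalCert where
  /-- Closed paths with their starting words. -/
  paths : List (List ℕ × List Step)
  /-- Their linear forms. -/
  rows : List ℕ
  /-- The change of lifts. -/
  mu : List ℕ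
  /-- The remaining direction. -/
  alpha : List ℕ
  /-- The remaining parameter. -/
  lam : ℕ
  /-- Combinations of rows. -/
  comb : List ℕ

/-- The correction of a word by a change of lifts. -/
noncomputable def Pres.lw (P : Pres) (mu : List ℕ) : List ℕ → ℕ
  | [] => 0
  | x :: w => mu.getD x 0 ^^^ actF (P.mats.getD x []) (P.lw mu w)

/-- The check of the paths. -/
noncomputable def NormalCert.pathsOK (C : NormalCert) (P : Pres) (n nl : ℕ) : Bool :=
  (C.paths.all fun p => P.chain n p.1 p.1 p.2 && Pres.stepsOK nl p.2) &&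
    (C.paths.flatMap fun p => (List.range 11).map (blk (P.sumF p.2))) == C.rows

/-- The check of one normalised relation. -/
noncomputable def NormalCert.relOK (C : NormalCert) (P : Pres) (r : ℕ) : Bool :=
  CosetEnum.strict (varF r ^^^ (P.lw C.mu (P.lhs r) ^^^ P.lw C.mu (P.rhs r))) fun R =>
    Comp.PermCode.allLt 11 fun k => Nat.beq (blk R k)
      ((bif tbit (C.alpha.getD r 0) k then C.lam else 0) ^^^
        combL C.rows (C.comb.getD (11 * r + k) 0))

theorem ev_combL (x : ℕ → ZMod 2) : ∀ (l : List ℕ) (c : ℕ), (∀ a ∈ l, ev x a = 0) →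
    ev x (combL l c) = 0
  | [], _, _ => ev_zero x
  | b :: bs, c, h => by
    rw [combL, ev_xor, ev_combL x bs _ fun a ha => h a (List.mem_cons_of_mem _ ha)]
    cases Nat.beq (c % 2) 1
    · simp [ev_zero]
    · simpa using h b (List.mem_cons_self ..)

variable {E : Type*} [Group E] {P : Pres} (M : Model P E)

theorem Model.wv_change (x : ℕ → ZMod 2) (mu : List ℕ) : ∀ w : List ℕ,
    (∀ a ∈ w, a < M.letters) →
    wv (fun a => M.jv (evF x (mu.getD a 0)) * M.L a) w = M.jv (evF x (P.lw mu w)) * wv M.L w
  | [], _ => by simp [wv, Pres.lw, evF_zero, M.jv_zero]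
  | a :: w, h => by
    rw [wv_cons, wv_cons, Model.wv_change x mu w fun b hb => h b (List.mem_cons_of_mem _ hb),
      Pres.lw, evF_xor, M.jv_add, evF_actF, ← Pres.A]
    rw [mul_assoc (M.jv _) (M.L a), ← mul_assoc (M.L a), M.conj a (h a (List.mem_cons_self ..))]
    simp only [mul_assoc]

theorem Model.exists_normal (C : NormalCert) {n nS : ℕ} {v : ℕ → V} (hv : M.IsVal n v)
    (hn : 11 * n ≤ width) (hnS : nS ≤ n) (hp : C.pathsOK P n M.letters = true)
    (hr : ∀ r < nS, C.relOK P r = true)
    (hw : ∀ r < nS, ∀ a ∈ P.lhs r ++ P.rhs r, a < M.letters) :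
    ∃ (L' : ℕ → E) (c : ZMod 2), (∀ a, ∃ m, L' a = M.jv m * M.L a) ∧
      ∀ r < nS, wv L' (P.lhs r) = M.jv (c • toV (C.alpha.getD r 0)) * wv L' (P.rhs r) := by
  set x := pointOf v with hx
  refine ⟨fun a => M.jv (evF x (C.mu.getD a 0)) * M.L a, ev x C.lam, fun a => ⟨_, rfl⟩,
    fun r hrn => ?_⟩
  rw [NormalCert.pathsOK, Bool.and_eq_true, beq_iff_eq, List.all_eq_true] at hp
  have hrows : ∀ a ∈ C.rows, ev x a = 0 := by
    intro a ha
    rw [← hp.2, List.mem_flatMap] at ha
    obtain ⟨p, hpm, ha⟩ := ha
    obtain ⟨k, hk, rfl⟩ := List.mem_map.1 ha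
    have h := hp.1 p hpm
    rw [Bool.and_eq_true] at h
    have h0 := congrFun (M.closed_sound hv hn h.1 h.2) ⟨k, List.mem_range.1 hk⟩
    unfold evF at h0
    exact h0
  have hwr := hw r hrn
  have e := hr r hrn
  rw [NormalCert.relOK, CosetEnum.strict_eq] at e
  have key : evF x (varF r ^^^ (P.lw C.mu (P.lhs r) ^^^ P.lw C.mu (P.rhs r))) =
      ev x C.lam • toV (C.alpha.getD r 0) := by
    funext k
    have e' := Nat.eq_of_beq_eq_true (Comp.PermCode.allLt_spec e k k.2)
    unfold evF
    rw [e', ev_xor, ev_combL x _ _ hrows, add_zero, tbit_eq]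
    show _ = ev x C.lam * b2z ((C.alpha.getD r 0).testBit k)
    cases (C.alpha.getD r 0).testBit (k : ℕ) <;> simp [ev_zero, b2z]
  rw [evF_xor, evF_xor, evF_varF v (by omega)] at key
  rw [M.wv_change x C.mu _ fun a ha => hwr a (List.mem_append_left _ ha),
    M.wv_change x C.mu _ fun a ha => hwr a (List.mem_append_right _ ha), hv r (by omega), ← key,
    ← mul_assoc, ← mul_assoc, ← M.jv_add, ← M.jv_add]
  congr 2
  funext i
  have h2 := CharTwo.add_self_eq_zero (evF x (P.lw C.mu (P.rhs r)) i)
  simp only [Pi.add_apply]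
  linear_combination -h2

end CfsgLib.M23Ext
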